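import Groth.Agent.S9407
import Mathlib.RingTheory.Smooth.Locus
import Mathlib.RingTheory.Smooth.Field
import Mathlib.FieldTheory.Perfect
import Mathlib.Algebra.Algebra.Rat

/-!
# Reductions mod `p` of a reduced ring of finite type over `ℤ`
-/

set_option autoImplicit false
universe u
open TensorProduct

namespace Groth.Agent.RedModPLib

variable (A : Type u) [CommRing A]

theorem eq_bot_maximalIdeal_atPrime [IsReduced A] (P : Ideal A) [P.IsPrime]
    (hP : P ∈ minimalPrimes A) :
    IsLocalRing.maximalIdeal (Localization.AtPrime P) = ⊥ := by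
  haveI : IsReduced (Localization.AtPrime P) :=
    isReduced_localizationPreserves P.primeCompl _ inferInstance
  rw [eq_bot_iff, ← nilradical_eq_bot_iff.2 (inferInstance : IsReduced (Localization.AtPrime P)),
    nilradical_eq_sInf]
  refine le_sInf fun Q hQ => ?_
  haveI : Q.IsPrime := hQ
  have hle : Q.comap (algebraMap A (Localization.AtPrime P)) ≤ P := by
    have := Ideal.comap_mono (f := algebraMap A (Localization.AtPrime P))
      (IsLocalRing.le_maximalIdeal hQ.ne_top)
    rwa [show (IsLocalRing.maximalIdeal (Localization.AtPrime P)).comap (algebraMap A _) = P from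
      Localization.AtPrime.under_maximalIdeal (I := P)] at this
  have heq : Q.comap (algebraMap A (Localization.AtPrime P)) = P :=
    le_antisymm hle (hP.2 ⟨inferInstance, bot_le⟩ hle)
  rw [← Localization.AtPrime.map_eq_maximalIdeal]
  rw [Ideal.map_le_iff_le_comap, heq]

theorem isSmoothAt_of_charZero [Algebra.FiniteType ℤ A] [IsReduced A] (P : Ideal A) [P.IsPrime]
    (hP : P ∈ minimalPrimes A) (hchar : ∀ m : ℕ, m ≠ 0 → (m : A) ∉ P) :
    Algebra.IsSmoothAt ℤ P := by
  let L := Localization.AtPrime P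
  have hf : IsField L := IsLocalRing.isField_iff_maximalIdeal_eq.2 (eq_bot_maximalIdeal_atPrime A P hP)
  letI : Field L := hf.toField
  haveI : CharZero L := by
    refine charZero_of_inj_zero fun p h0 => by_contra fun hp => hchar p hp ?_
    rw [← IsLocalization.AtPrime.to_map_mem_maximal_iff L P (p : A), map_natCast, h0]
    exact zero_mem _
  haveI := IsScalarTower.of_algebraMap_eq' (R := ℤ) (S := ℚ) (A := L) (RingHom.ext_int _ _)
  haveI : Algebra.EssFiniteType A L := Algebra.EssFiniteType.of_isLocalization L P.primeCompl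
  haveI : Algebra.EssFiniteType ℤ L := Algebra.EssFiniteType.comp ℤ A L
  haveI : Algebra.EssFiniteType ℚ L := Algebra.EssFiniteType.of_comp ℤ ℚ L
  haveI : PerfectField ℚ := PerfectField.ofCharZero
  haveI : Algebra.FormallySmooth ℚ L := Algebra.FormallySmooth.of_perfectField
  haveI : Algebra.FormallyEtale ℤ ℚ := Algebra.FormallyEtale.of_isLocalization (nonZeroDivisors ℤ)
  exact Algebra.FormallySmooth.comp ℤ ℚ L

theorem exists_smooth_away [Algebra.FiniteType ℤ A] [IsReduced A] :
    ∃ (g : A) (n : ℕ), n ≠ 0 ∧ g ∈ nonZeroDivisors A ∧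
      Algebra.Smooth ℤ (Localization.Away (g * (n : A))) := by
  classical
  haveI : IsNoetherianRing A := Algebra.FiniteType.isNoetherianRing ℤ A
  haveI : Algebra.FinitePresentation ℤ A := Algebra.FinitePresentation.of_finiteType.mp inferInstance
  obtain ⟨J, hJ⟩ := (PrimeSpectrum.isClosed_iff_zeroLocus_ideal _).mp
    (Algebra.isOpen_smoothLocus (R := ℤ) (A := A)).isClosed_compl
  have hfin := minimalPrimes.finite_of_isNoetherianRing A
  let C : Ideal A → Prop := fun P => ∀ m : ℕ, m ≠ 0 → (m : A) ∉ P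
  have hbad : ∀ P : Ideal A, ∃ m : ℕ, m ≠ 0 ∧ (¬ C P → (m : A) ∈ P) := fun P => by
    by_cases h : C P
    · exact ⟨1, one_ne_zero, fun h' => (h' h).elim⟩
    · simp only [C, not_forall, not_not] at h
      obtain ⟨m, hm, hmP⟩ := h
      exact ⟨m, hm, fun _ => hmP⟩
  choose mm hmm hmmP using hbad
  let n := ∏ P ∈ hfin.toFinset, mm P
  let Q : Ideal A := (hfin.toFinset.filter C).inf id
  have hKQ : ∀ P ∈ minimalPrimes A, ¬ (J ⊔ Q) ≤ P := by
    intro P hP hle
    haveI := hP.1.1
    by_cases hC : C P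
    · have h1 : (⟨P, hP.1.1⟩ : PrimeSpectrum A) ∈ Algebra.smoothLocus ℤ A :=
        isSmoothAt_of_charZero A P hP hC
      have h2 : (⟨P, hP.1.1⟩ : PrimeSpectrum A) ∈ (Algebra.smoothLocus ℤ A)ᶜ := by
        rw [hJ]; exact (le_sup_left.trans hle : J ≤ P)
      exact h2 h1
    · obtain ⟨P', hP', hle'⟩ := (Ideal.IsPrime.inf_le' hP.1.1).1 (le_sup_right.trans hle)
      simp only [Finset.mem_filter, Set.Finite.mem_toFinset] at hP'
      have : P' = P := le_antisymm hle' (hP.2 hP'.1.1 hle')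
      exact hC (this ▸ hP'.2)
  obtain ⟨g, hgK, hg⟩ : ∃ g ∈ J ⊔ Q, ∀ P ∈ minimalPrimes A, g ∉ P := by
    by_contra hne
    push Not at hne
    have hsub : ((J ⊔ Q : Ideal A) : Set A) ⊆ ⋃ P ∈ (hfin.toFinset : Set (Ideal A)), (P : Set A) :=
      fun x hx => by
        obtain ⟨P, hP, hxP⟩ := hne x hx
        exact Set.mem_biUnion (hfin.mem_toFinset.2 hP) hxP
    obtain ⟨P, hP, hle⟩ := (Ideal.subset_union_prime ⊥ ⊥ (fun P hP _ _ =>
      (hfin.mem_toFinset.1 hP).1.1)).1 hsub
    exact hKQ P (hfin.mem_toFinset.1 hP) hle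
  have hzero : ∀ x : A, (∀ P ∈ minimalPrimes A, x ∈ P) → x = 0 := by
    intro x hx
    have : x ∈ sInf (minimalPrimes A) := (Submodule.mem_sInf).2 hx
    rwa [show minimalPrimes A = (⊥ : Ideal A).minimalPrimes from rfl, Ideal.sInf_minimalPrimes,
      show (⊥ : Ideal A).radical = nilradical A from rfl, nilradical_eq_bot_iff.2 inferInstance] at this
  refine ⟨g, n, Finset.prod_ne_zero_iff.2 fun P _ => hmm P, ?_, ?_⟩
  · rw [mem_nonZeroDivisors_iff_right]
    exact fun x hx => hzero x fun P hP => ((hP.1.1.mem_or_mem (by rw [hx]; exact zero_mem _)).resolve_right (hg P hP))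
  · have hgn : g * (n : A) ∈ J := by
      obtain ⟨j, hj, q, hq, rfl⟩ := Submodule.mem_sup.1 hgK
      have hq0 : q * (n : A) = 0 := hzero _ fun P hP => by
        by_cases hC : C P
        · exact P.mul_mem_right _ ((Finset.inf_le (f := id) (b := P)
            (Finset.mem_filter.2 ⟨hfin.mem_toFinset.2 hP, hC⟩)) hq)
        · refine P.mul_mem_left _ ?_
          obtain ⟨c, hc⟩ := Finset.dvd_prod_of_mem mm (hfin.mem_toFinset.2 hP)
          rw [show n = mm P * c from hc, Nat.cast_mul]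
          exact P.mul_mem_right _ (hmmP P hC)
      rw [add_mul, hq0, add_zero]
      exact J.mul_mem_right _ hj
    rw [← Algebra.basicOpen_subset_smoothLocus_iff_smooth]
    intro q hq
    by_contra hq'
    have : q ∈ (Algebra.smoothLocus ℤ A)ᶜ := hq'
    rw [hJ] at this
    exact hq (this hgn)

theorem isReduced_quotient_natCast (L : Type u) [CommRing L] (h : Algebra.Smooth ℤ L) (p : ℕ)
    [Fact p.Prime] : IsReduced (L ⧸ Ideal.span {(p : L)}) := by
  haveI := h
  let K := ULift.{u} (ZMod p)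
  letI : Algebra ℤ K := Ring.toIntAlgebra K
  haveI : IsReduced K :=
    isReduced_of_injective (ULift.ringEquiv : ULift.{u} (ZMod p) ≃+* ZMod p) (RingEquiv.injective _)
  haveI : IsReduced (K ⊗[ℤ] L) := Groth.Agent.S9407.result K (K ⊗[ℤ] L)
  let J : Ideal L := Ideal.span {(p : L)}
  have hpJ : (p : L ⧸ J) = 0 := by
    rw [← map_natCast (Ideal.Quotient.mk J), Ideal.Quotient.eq_zero_iff_mem]
    exact Ideal.mem_span_singleton_self _
  haveI : CharP (L ⧸ J) (ringChar (L ⧸ J)) := ringChar.charP _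
  let φ : K →+* L ⧸ J :=
    (ZMod.castHom (ringChar.dvd hpJ) (L ⧸ J)).comp
      (ULift.ringEquiv : ULift.{u} (ZMod p) ≃+* ZMod p).toRingHom
  let ψ : K ⊗[ℤ] L →ₐ[ℤ] L ⧸ J :=
    Algebra.TensorProduct.lift φ.toIntAlgHom (Ideal.Quotient.mk J).toIntAlgHom
      (fun _ _ => mul_comm _ _)
  let ι : L →ₐ[ℤ] K ⊗[ℤ] L := Algebra.TensorProduct.includeRight
  have hp0 : ι (p : L) = 0 := by
    rw [map_natCast, ← map_natCast (algebraMap K (K ⊗[ℤ] L)),
      show (p : K) = 0 from (ULift.ringEquiv : ULift.{u} (ZMod p) ≃+* ZMod p).injective (by simp),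
      map_zero]
  refine ⟨fun x hx => ?_⟩
  obtain ⟨a, rfl⟩ := Ideal.Quotient.mk_surjective x
  obtain ⟨k, hk⟩ := hx
  rw [← map_pow, Ideal.Quotient.eq_zero_iff_mem, Ideal.mem_span_singleton] at hk
  obtain ⟨b, hb⟩ := hk
  have hι : ι a = 0 := IsReduced.eq_zero _ ⟨k, by rw [← map_pow, hb, map_mul, hp0, zero_mul]⟩
  have h1 : ψ (ι a) = Ideal.Quotient.mk J a := by simp [ψ, ι]
  rw [← h1, hι, map_zero]

theorem finite_setOf_not_isReduced [Algebra.FiniteType ℤ A] [IsReduced A] :
    {p : ℕ | p.Prime ∧ ¬ IsReduced (A ⧸ Ideal.span {(p : A)})}.Finite := by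
  classical
  haveI : IsNoetherianRing A := Algebra.FiniteType.isNoetherianRing ℤ A
  obtain ⟨g, n, hn, hg, hsm⟩ := exists_smooth_away A
  -- torsion of `A / g A`
  let T : Ideal A :=
    { carrier := {x | ∃ m : ℕ, m ≠ 0 ∧ (m : A) * x ∈ Ideal.span {g}}
      zero_mem' := ⟨1, one_ne_zero, by simp⟩
      add_mem' := by
        rintro x y ⟨a, ha, hx⟩ ⟨b, hb, hy⟩
        refine ⟨a * b, Nat.mul_ne_zero ha hb, ?_⟩
        rw [Nat.cast_mul, mul_add]
        refine add_mem ?_ ?_
        · rw [mul_comm (a : A), mul_assoc]; exact Ideal.mul_mem_left _ _ hx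
        · rw [mul_assoc]; exact Ideal.mul_mem_left _ _ hy
      smul_mem' := by
        rintro c x ⟨a, ha, hx⟩
        exact ⟨a, ha, by rw [smul_eq_mul, mul_left_comm]; exact Ideal.mul_mem_left _ _ hx⟩ }
  obtain ⟨S, hS⟩ := (IsNoetherian.noetherian T : T.FG)
  have hmem : ∀ x : S, (x : A) ∈ T := fun x => hS ▸ Submodule.subset_span x.2
  choose m hm hmx using hmem
  let t := ∏ x : S, m x
  have ht0 : t ≠ 0 := Finset.prod_ne_zero_iff.2 fun x _ => hm x
  have ht : ∀ x ∈ T, (t : A) * x ∈ Ideal.span {g} := by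
    intro x hx
    have hle : T ≤ (Ideal.span {g}).colon {(t : A)} := by
      conv_lhs => rw [← hS]
      rw [Submodule.span_le]
      intro y hy
      rw [SetLike.mem_coe, Submodule.mem_colon_singleton, smul_eq_mul, mul_comm]
      obtain ⟨c, hc⟩ := Finset.dvd_prod_of_mem m (Finset.mem_univ (⟨y, hy⟩ : S))
      rw [show t = m ⟨y, hy⟩ * c from hc, Nat.cast_mul, mul_comm (m ⟨y, hy⟩ : A), mul_assoc]
      exact Ideal.mul_mem_left _ _ (hmx ⟨y, hy⟩)
    have := hle hx
    rwa [Submodule.mem_colon_singleton, smul_eq_mul, mul_comm] at this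
  refine (n * t).primeFactors.finite_toSet.subset fun p hp => ?_
  obtain ⟨hp, hnr⟩ := hp
  rw [Finset.mem_coe, Nat.mem_primeFactors]
  refine ⟨hp, by_contra fun hdvd => hnr ?_, Nat.mul_ne_zero hn ht0⟩
  haveI := Fact.mk hp
  let I : Ideal A := Ideal.span {(p : A)}
  have hunit : ∀ c : ℕ, ¬ p ∣ c → ∃ u : A, u * (c : A) - 1 ∈ I := fun c hc => by
    obtain ⟨a, b, hab⟩ := ((Nat.Prime.coprime_iff_not_dvd hp).2 hc).isCoprime
    refine ⟨(b : A), ?_⟩
    have : (a : A) * (p : A) + (b : A) * (c : A) = 1 := by exact_mod_cast congrArg (Int.cast (R := A)) hab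
    rw [show (b : A) * (c : A) - 1 = -((a : A) * (p : A)) by linear_combination this]
    exact neg_mem (I.mul_mem_left _ (Ideal.mem_span_singleton_self _))
  have hnt : ∀ c : ℕ, c ∣ n * t → ¬ p ∣ c := fun c hc h => hdvd (h.trans hc)
  have hcancel : ∀ (c : ℕ) (a : A), c ∣ n * t → (c : A) * a ∈ I → a ∈ I := fun c a hc ha => by
    obtain ⟨u, hu⟩ := hunit c (hnt c hc)
    rw [show a = u * ((c : A) * a) - (u * (c : A) - 1) * a by ring]
    exact sub_mem (I.mul_mem_left _ ha) (I.mul_mem_right _ hu)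
  -- `g` is a non-zero-divisor mod `p`
  have hgI : ∀ a : A, g * a ∈ I → a ∈ I := fun a ha => by
    obtain ⟨b, hb⟩ := Ideal.mem_span_singleton.1 ha
    obtain ⟨c, hc⟩ := Ideal.mem_span_singleton.1 (ht b ⟨p, hp.ne_zero,
      Ideal.mem_span_singleton.2 ⟨a, by rw [← hb]⟩⟩)
    have : (t : A) * a = (p : A) * c := by
      apply mul_cancel_left_mem_nonZeroDivisors hg |>.1
      linear_combination (t : A) * hb + (p : A) * hc
    exact hcancel t a (dvd_mul_left t n) (this ▸ I.mul_mem_right _ (Ideal.mem_span_singleton_self _))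
  -- the smooth reduction
  let L := Localization.Away (g * (n : A))
  let J : Ideal L := Ideal.span {(p : L)}
  have hred : IsReduced (L ⧸ J) := isReduced_quotient_natCast L (by convert hsm; exact Subsingleton.elim _ _) p
  refine ⟨fun x hx => ?_⟩
  obtain ⟨a, rfl⟩ := Ideal.Quotient.mk_surjective x
  obtain ⟨k, hk⟩ := hx
  rw [← map_pow, Ideal.Quotient.eq_zero_iff_mem, Ideal.mem_span_singleton] at hk
  obtain ⟨b, hb⟩ := hk
  have hι : Ideal.Quotient.mk J (algebraMap A L a) = 0 := hred.eq_zero _ ⟨k, by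
    rw [← map_pow, ← map_pow, hb, map_mul, map_natCast, Ideal.Quotient.eq_zero_iff_mem]
    exact J.mul_mem_right _ (Ideal.mem_span_singleton_self _)⟩
  rw [Ideal.Quotient.eq_zero_iff_mem]
  have hJ : algebraMap A L a ∈ J := Ideal.Quotient.eq_zero_iff_mem.1 hι
  have hJ' : J = I.map (algebraMap A L) := by
    rw [Ideal.map_span, Set.image_singleton, map_natCast]
  rw [hJ', IsLocalization.algebraMap_mem_map_algebraMap_iff (Submonoid.powers (g * (n : A)))] at hJ
  obtain ⟨_, ⟨j, rfl⟩, hj⟩ := hJ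
  change a ∈ I
  dsimp only at hj
  clear hι hb
  induction j generalizing a with
  | zero => simpa using hj
  | succ j ih =>
    refine ih _ (hgI _ (hcancel n _ (dvd_mul_right n t) ?_))
    rw [pow_succ] at hj
    convert hj using 1
    ring

end Groth.Agent.RedModPLib
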